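import Cfsg.Prelude.Def_Sz
import Cfsg.Prelude.Def_Exceptional
import Cfsg.Agent.S0327
import Cfsg.Agent.S0326
import Cfsg.Agent.Lib.CITReduce.SuzukiGraph

/-!
# Groups with the maximal subgroup orders of a Suzuki group

Owner: helper20.  The orders of the maximal subgroups determine the group order, and a maximal
subgroup of index `q ^ 2 + 1` forces a simple section of order prime to `3` containing a primitive
prime divisor of `q ^ 4 - 1`.
-/

set_option autoImplicit false
set_option linter.unusedSectionVars false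
set_option linter.style.haveILetI false

namespace Cfsg.Agent.Lib.SzMaxOrders20

open Cfsg.Agent.Lib.LieTwisted.Suzuki Cfsg.Agent.Lib.SzTori Cfsg.Agent.Lib.CITReduce.SuzukiGraph

universe u v

/-- The simple groups of order prime to three are Suzuki groups. -/
def ThreePrimeSimple : Prop :=
  ∀ (S : Type u) [Group S] [Finite S] [IsSimpleGroup S],
    (∃ a b : S, a * b ≠ b * a) → ¬ 3 ∣ Nat.card S → Cfsg.Lie.IsoSuzuki S

section Sz

variable {F : Type v} [Field F] [Fintype F] {m : ℕ} (h : IsSzField F m) (hm : 1 ≤ m)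
include h hm

/-- The point stabilisers are maximal, of order `q ^ 2 (q - 1)`. -/
theorem exists_borel : ∃ M : Subgroup (Cfsg.Sz F m), IsCoatom M ∧
    Nat.card M = Fintype.card F ^ 2 * (Fintype.card F - 1) := by
  obtain ⟨-, h2, -⟩ := S0327.result hm h.card
  haveI := h2
  haveI : MulAction.IsPreprimitive (Cfsg.Sz F m) (Cfsg.suzukiOvoid F m) :=
    MulAction.isPreprimitive_of_is_two_pretransitive h2
  have hcard : Nat.card (Cfsg.suzukiOvoid F m) = Fintype.card F ^ 2 + 1 := S0326.result m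
  haveI : Nonempty (Cfsg.suzukiOvoid F m) := (Nat.card_pos_iff.1 (by omega)).1
  haveI : Nontrivial (Cfsg.suzukiOvoid F m) := by
    haveI : Finite (Cfsg.suzukiOvoid F m) := Nat.finite_of_card_ne_zero (by omega)
    rw [← Finite.one_lt_card_iff_nontrivial, hcard]
    have := h.two_lt_card hm
    nlinarith
  obtain ⟨p⟩ := (inferInstance : Nonempty (Cfsg.suzukiOvoid F m))
  refine ⟨MulAction.stabilizer (Cfsg.Sz F m) p,
    MulAction.IsPreprimitive.isCoatom_stabilizer_of_isPreprimitive _ p, ?_⟩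
  have hidx := MulAction.index_stabilizer_of_transitive (Cfsg.Sz F m) p
  have hmul := Subgroup.card_mul_index (MulAction.stabilizer (Cfsg.Sz F m) p)
  rw [hidx, hcard, h.card_group hm] at hmul
  refine Nat.eq_of_mul_eq_mul_right (Nat.succ_pos (Fintype.card F ^ 2)) ?_
  rw [Nat.succ_eq_add_one, hmul]
  ring

end Sz

/-- A finite group whose maximal subgroup orders all divide `n` and one of which is not a prime
power has order dividing `n`. -/
theorem card_dvd_of_coatom {G : Type*} [Group G] [Finite G] {n : ℕ}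
    (hdvd : ∀ M : Subgroup G, IsCoatom M → Nat.card M ∣ n)
    {M₀ : Subgroup G} {r s : ℕ} (hr : r.Prime) (hs : s.Prime) (hrs : r ≠ s)
    (hr0 : r ∣ Nat.card M₀) (hs0 : s ∣ Nat.card M₀) : Nat.card G ∣ n := by
  refine (Nat.dvd_iff_prime_pow_dvd_dvd _ _).2 fun p k hp hk => ?_
  haveI := Fact.mk hp
  obtain ⟨K, hK⟩ := Sylow.exists_subgroup_card_pow_prime p hk
  have hne : K ≠ ⊤ := by
    intro hKt
    rw [hKt, Subgroup.card_top] at hK
    have h1 := (Nat.prime_dvd_prime_iff_eq hr hp).1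
      (hr.dvd_of_dvd_pow (hK ▸ hr0.trans (Subgroup.card_subgroup_dvd_card M₀)))
    have h2 := (Nat.prime_dvd_prime_iff_eq hs hp).1
      (hs.dvd_of_dvd_pow (hK ▸ hs0.trans (Subgroup.card_subgroup_dvd_card M₀)))
    exact hrs (h1.trans h2.symm)
  obtain ⟨M, hM, hKM⟩ := (eq_top_or_exists_le_coatom K).resolve_left hne
  rw [← hK]
  exact (Subgroup.card_dvd_of_le hKM).trans (hdvd M hM)

/-- A maximal subgroup gives a simple section divisible by every prime of its index prime to its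
order. -/
theorem exists_simple_section {G : Type u} [Group G] [Finite G] {M : Subgroup G} (hM : IsCoatom M) :
    ∃ (N : Subgroup G) (K : Subgroup N) (_ : K.Normal), IsSimpleGroup (N ⧸ K) ∧
      ∀ s : ℕ, s.Prime → s ∣ M.index → ¬ s ∣ Nat.card M → s ∣ Nat.card (N ⧸ K) := by
  classical
  obtain ⟨N, ⟨hNn, hNM⟩, hmin⟩ := exists_minimal_of_wellFoundedLT
    (fun N : Subgroup G => N.Normal ∧ ¬ N ≤ M)
    ⟨⊤, inferInstance, fun h => hM.1 (top_le_iff.1 h)⟩
  haveI := hNn
  have hNbot : N ≠ ⊥ := fun e => hNM (e ▸ bot_le)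
  obtain ⟨K, ⟨hKn, hKtop⟩, hKmax⟩ := exists_maximal_of_wellFoundedGT
    (fun K : Subgroup N => K.Normal ∧ K ≠ ⊤)
    ⟨⊥, inferInstance, fun e => hNbot (by
      have := congrArg (Subgroup.map N.subtype) e
      simpa [← MonoidHom.range_eq_map] using this.symm)⟩
  haveI := hKn
  haveI : Nontrivial (N ⧸ K) := QuotientGroup.nontrivial_iff.2 hKtop
  refine ⟨N, K, hKn, ⟨fun H hH => ?_⟩, fun s hs hsi hsM => ?_⟩
  · haveI := hH
    by_cases ht : H.comap (QuotientGroup.mk' K) = ⊤
    · right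
      rw [← Subgroup.map_comap_eq_self_of_surjective (QuotientGroup.mk'_surjective K) H, ht]
      exact Subgroup.map_top_of_surjective _ (QuotientGroup.mk'_surjective K)
    · left
      have hle : K ≤ H.comap (QuotientGroup.mk' K) := fun x hx => by
        rw [Subgroup.mem_comap, show QuotientGroup.mk' K x = 1 from
          (QuotientGroup.eq_one_iff x).2 hx]
        exact H.one_mem
      have heq := le_antisymm hle (hKmax ⟨inferInstance, ht⟩ hle)
      rw [← Subgroup.map_comap_eq_self_of_surjective (QuotientGroup.mk'_surjective K) H, ← heq,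
        QuotientGroup.map_mk'_self]
  -- an element of order `s`
  haveI := Fact.mk hs
  have hNtop : M ⊔ N = ⊤ := hM.2 _ (lt_of_le_of_ne le_sup_left fun e => hNM (e ▸ le_sup_right))
  have hsN : s ∣ Nat.card N := by
    refine hsi.trans ?_
    have h1 : M.index ∣ Nat.card N := by
      have e1 : N.relIndex M = N.index := by
        rw [← Subgroup.relIndex_sup_right M N, hNtop, Subgroup.relIndex_top_right]
      have e2 := Subgroup.relIndex_mul_relIndex (⊥ : Subgroup G) (N ⊓ M) M bot_le inf_le_right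
      rw [Subgroup.relIndex_bot_left, Subgroup.relIndex_bot_left, Subgroup.inf_relIndex_right,
        e1] at e2
      refine ⟨Nat.card ↥(N ⊓ M), Nat.eq_of_mul_eq_mul_right
        (Nat.pos_of_ne_zero N.index_ne_zero_of_finite) ?_⟩
      rw [Subgroup.card_mul_index, mul_assoc, e2, mul_comm, Subgroup.card_mul_index]
    exact h1
  obtain ⟨x, hx⟩ := exists_prime_orderOf_dvd_card' (G := N) s hsN
  have hxG : orderOf (x : G) = s := by rw [Subgroup.orderOf_coe, hx]
  by_contra hsK
  -- all conjugates of `x` lie in `K`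
  have hall : ∀ g : G, (⟨g * (x : G) * g⁻¹, hNn.conj_mem _ x.2 g⟩ : N) ∈ K := by
    intro g
    by_contra hg
    refine hsK ?_
    have h1 : orderOf (QuotientGroup.mk' K (⟨g * (x : G) * g⁻¹, hNn.conj_mem _ x.2 g⟩ : N)) ∣ s := by
      refine (orderOf_map_dvd _ _).trans ?_
      rw [← Subgroup.orderOf_coe, show orderOf (g * (x : G) * g⁻¹) = orderOf (x : G) from
        (MulAut.conj g).orderOf_eq _, hxG]
    rcases (Nat.dvd_prime hs).1 h1 with h2 | h2
    · exact absurd ((QuotientGroup.eq_one_iff _).1 (orderOf_eq_one_iff.1 h2)) hg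
    · exact h2 ▸ orderOf_dvd_natCard _
  set C := Subgroup.normalClosure ({(x : G)} : Set G) with hC
  have hCK : C ≤ K.map N.subtype := by
    rw [hC, Subgroup.normalClosure, Subgroup.closure_le]
    intro y hy
    obtain ⟨a, ha, hay⟩ := Group.mem_conjugatesOfSet_iff.1 hy
    obtain rfl : a = (x : G) := Set.mem_singleton_iff.1 ha
    obtain ⟨g, hg⟩ := isConj_iff.1 hay
    exact ⟨_, hall g, hg⟩
  have hCM : C ≤ M := by
    by_contra hCM
    have hCN : C ≤ N := Subgroup.normalClosure_le_normal (Set.singleton_subset_iff.2 x.2)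
    have hNC : N ≤ C := hmin ⟨inferInstance, hCM⟩ hCN
    refine hKtop ((Subgroup.eq_top_iff' K).2 fun y => ?_)
    obtain ⟨z, hz, hzy⟩ := hCK (hNC y.2)
    obtain rfl : z = y := Subtype.ext hzy
    exact hz
  refine hsM ?_
  rw [← hxG]
  exact Subgroup.orderOf_dvd_natCard M (hCM (Subgroup.subset_normalClosure rfl))

/-- A group with the maximal subgroup orders of `Sz(q)`. -/
theorem main (h3 : ThreePrimeSimple.{u}) {F : Type v} [Field F] [Fintype F] (m : ℕ) (hm : 1 ≤ m)
    (hF : Fintype.card F = 2 ^ (2 * m + 1)) {G : Type u} [Group G] [Finite G]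
    (hmax : {k : ℕ | ∃ M : Subgroup G, IsCoatom M ∧ k = Nat.card ↥M} =
      {k : ℕ | ∃ M : Subgroup ↥(Cfsg.Lie.Sz F (2 ^ (m + 1))), IsCoatom M ∧ k = Nat.card ↥M}) :
    Nonempty (G ≃* ↥(Cfsg.Lie.Sz F (2 ^ (m + 1)))) := by
  classical
  have h : IsSzField F m := ⟨hF⟩
  let eL := szEquiv h hm
  haveI : Finite (Cfsg.Sz F m) :=
    Finite.of_injective (fun g : Cfsg.Sz F m => g.1) Subtype.val_injective
  haveI : Finite ↥(Cfsg.Lie.Sz F (2 ^ (m + 1))) := Finite.of_equiv _ eL.toEquiv
  set L := Cfsg.Lie.Sz F (2 ^ (m + 1)) with hL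
  have hcardL : Nat.card L = Nat.card (Cfsg.Sz F m) := (Nat.card_congr eL.toEquiv).symm
  set q := Fintype.card F with hq
  -- the Borel subgroup
  obtain ⟨B, hB, hBc⟩ := exists_borel h hm
  have hB' : IsCoatom (B.map (eL : Cfsg.Sz F m →* L)) :=
    ((MulEquiv.mapSubgroup eL).isCoatom_iff B).2 hB
  have hB'c : Nat.card (B.map (eL : Cfsg.Sz F m →* L)) = q ^ 2 * (q - 1) := by
    rw [Subgroup.card_map_of_injective (f := (eL : Cfsg.Sz F m →* L)) eL.injective, hBc]
  obtain ⟨M₀, hM₀, hM₀c⟩ : q ^ 2 * (q - 1) ∈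
      {k : ℕ | ∃ M : Subgroup G, IsCoatom M ∧ k = Nat.card ↥M} := hmax ▸ ⟨_, hB', hB'c.symm⟩
  have hqe : 2 ∣ q := by rw [hF]; exact dvd_pow_self 2 (by omega)
  have hq2 := h.two_lt_card hm
  obtain ⟨r₁, hr₁, hd₁⟩ := Nat.exists_prime_and_dvd (n := q - 1) (by omega)
  have hr₁2 : (2 : ℕ) ≠ r₁ := by rintro rfl; omega
  have h2M : 2 ∣ q ^ 2 * (q - 1) := (dvd_pow hqe two_ne_zero).mul_right _
  have hr₁M : r₁ ∣ q ^ 2 * (q - 1) := hd₁.mul_left _
  -- the orders agree
  have hGL : Nat.card G ∣ Nat.card L := by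
    refine card_dvd_of_coatom (fun M hM => ?_) Nat.prime_two hr₁ hr₁2 (M₀ := M₀)
      (hM₀c ▸ h2M) (hM₀c ▸ hr₁M)
    obtain ⟨M', -, e⟩ : Nat.card M ∈
        {k : ℕ | ∃ M : Subgroup L, IsCoatom M ∧ k = Nat.card ↥M} := hmax ▸ ⟨M, hM, rfl⟩
    exact e ▸ Subgroup.card_subgroup_dvd_card M'
  have hLG : Nat.card L ∣ Nat.card G := by
    refine card_dvd_of_coatom (fun M hM => ?_) Nat.prime_two hr₁ hr₁2
      (M₀ := B.map (eL : Cfsg.Sz F m →* L)) (hB'c ▸ h2M) (hB'c ▸ hr₁M)
    obtain ⟨M', -, e⟩ : Nat.card M ∈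
        {k : ℕ | ∃ M : Subgroup G, IsCoatom M ∧ k = Nat.card ↥M} := hmax.symm ▸ ⟨M, hM, rfl⟩
    exact e ▸ Subgroup.card_subgroup_dvd_card M'
  have hG : Nat.card G = q ^ 2 * (q ^ 2 + 1) * (q - 1) := by
    rw [Nat.dvd_antisymm hGL hLG, hcardL, h.card_group hm]
  have hidx : M₀.index = q ^ 2 + 1 := by
    have := Subgroup.card_mul_index M₀
    rw [hG, ← hM₀c] at this
    refine Nat.eq_of_mul_eq_mul_left
      (Nat.mul_pos (pow_pos (by omega : 0 < q) 2) (by omega : 0 < q - 1)) ?_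
    rw [this]; ring
  -- the section
  obtain ⟨N, K, hKn, hsim, hdiv⟩ := exists_simple_section hM₀
  haveI := hKn
  haveI := hsim
  have hidiv : ∀ s : ℕ, s.Prime → s ∣ q ^ 2 + 1 → s ∣ Nat.card (N ⧸ K) := fun s hs hsd =>
    hdiv s hs (hidx.symm ▸ hsd) (hM₀c ▸ (prime_facts h hm hs hsd).2)
  -- two primes of the index
  have hp5 : 5 ∣ q ^ 2 + 1 := by
    rw [hF, ← pow_mul, show (2 * m + 1) * 2 = 4 * m + 2 by ring, pow_add, pow_mul]
    have : (2 ^ 4) ^ m % 5 = 1 := by rw [Nat.pow_mod]; norm_num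
    omega
  obtain ⟨r, hr, hrd, hprim⟩ := NumberTheory.exists_primitive_prime_divisor (q := 2)
    (n := 4 * (2 * m + 1)) le_rfl (by omega) (by omega) (by omega)
  have hfac : 2 ^ (4 * (2 * m + 1)) - 1 = (2 ^ (2 * (2 * m + 1)) - 1) * (q ^ 2 + 1) := by
    rw [hF, ← pow_mul, mul_comm (2 * m + 1) 2,
      show 4 * (2 * m + 1) = 2 * (2 * m + 1) + 2 * (2 * m + 1) by ring, pow_add]
    have := Nat.one_le_two_pow (n := 2 * (2 * m + 1))
    zify [this, Nat.one_le_iff_ne_zero.2 (Nat.mul_ne_zero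
      (pow_ne_zero (2 * (2 * m + 1)) two_ne_zero) (pow_ne_zero (2 * (2 * m + 1)) two_ne_zero))]
    ring
  have hrq : r ∣ q ^ 2 + 1 :=
    (hr.dvd_mul.1 (hfac ▸ hrd)).resolve_left (hprim _ (by omega) (by omega))
  have hr5 : r ≠ 5 := by
    rintro rfl
    exact hprim 4 (by norm_num) (by omega) (by norm_num)
  -- the section is not abelian
  have hna : ∃ a b : N ⧸ K, a * b ≠ b * a := by
    by_contra hab
    push Not at hab
    letI : CommGroup (N ⧸ K) := { (inferInstance : Group (N ⧸ K)) with mul_comm := hab }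
    have hp : (Nat.card (N ⧸ K)).Prime := IsSimpleGroup.prime_card
    have e1 := (Nat.prime_dvd_prime_iff_eq hr hp).1 (hidiv r hr hrq)
    have e2 := (Nat.prime_dvd_prime_iff_eq (by norm_num) hp).1 (hidiv 5 (by norm_num) hp5)
    exact hr5 (e1.trans e2.symm)
  have hTG : Nat.card (N ⧸ K) ∣ Nat.card G :=
    (Subgroup.card_quotient_dvd_card K).trans (Subgroup.card_subgroup_dvd_card N)
  have h3T : ¬ 3 ∣ Nat.card (N ⧸ K) := fun hd => three_not_dvd h hm
    (((hd.trans hTG).trans hGL).trans hcardL.dvd)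
  obtain ⟨E, _, _, n, hn, hE, ⟨e⟩⟩ := h3 (N ⧸ K) hna h3T
  have hk : IsSzField E n := ⟨hE⟩
  let eT : N ⧸ K ≃* Cfsg.Sz E n := e.trans (szEquiv hk hn).symm
  have hTc := Nat.card_congr eT.toEquiv
  -- the field
  have hmn : n = m := by
    refine Nat.le_antisymm ?_ ?_
    · have hd2 : (2 ^ (2 * n + 1)) ^ 2 ∣ (2 ^ (2 * m + 1)) ^ 2 := by
        have h1 : (2 ^ (2 * n + 1)) ^ 2 ∣ Nat.card G := by
          refine Dvd.dvd.trans ?_ hTG
          rw [hTc, hk.card_group hn, hE]
          exact (dvd_mul_right _ _).mul_right _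
        rw [hG, hF, mul_assoc] at h1
        refine Nat.Coprime.dvd_of_dvd_mul_right ?_ h1
        rw [← pow_mul]
        refine Nat.Coprime.pow_left _ (Nat.prime_two.coprime_iff_not_dvd.2 ?_)
        intro hd
        rcases Nat.prime_two.dvd_mul.1 hd with h' | h'
        · rw [← hF] at h'
          exact absurd ((Nat.dvd_add_right (dvd_pow hqe two_ne_zero)).1 h') (by norm_num)
        · rw [← hF] at h'; omega
      rw [← pow_mul, ← pow_mul] at hd2
      have := Nat.pow_dvd_pow_iff_le_right (by norm_num : 1 < 2) |>.1 hd2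
      omega
    · have hr2 : r ≠ 2 := by
        rintro rfl
        exact absurd ((Nat.dvd_add_right (dvd_pow hqe two_ne_zero)).1 hrq) (by norm_num)
      have h2 := dvd_two_pow_sub_one hk hn hr hr2 (hTc ▸ hidiv r hr hrq)
      by_contra hlt
      exact hprim _ (by omega) (by omega) h2
  subst hmn
  have hTeq : Nat.card (N ⧸ K) = Nat.card G := by
    rw [hTc, hk.card_group hn, hE, hG, hF]
  have hKbot : K = ⊥ := Subgroup.card_eq_one.1 <| by
    have h1 := Subgroup.card_eq_card_quotient_mul_card_subgroup K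
    have h2 := Nat.le_of_dvd Nat.card_pos (Subgroup.card_subgroup_dvd_card N)
    rw [hTeq] at h1
    have h4 : Nat.card K ≤ 1 := by
      by_contra hlt
      have : Nat.card G * 2 ≤ Nat.card G * Nat.card K := Nat.mul_le_mul_left _ (by omega)
      have := Nat.card_pos (α := G)
      omega
    have := Nat.card_pos (α := K)
    omega
  have hNtop : N = ⊤ := Subgroup.eq_top_of_card_eq N <| by
    have h1 := Subgroup.card_eq_card_quotient_mul_card_subgroup K
    rw [hTeq, hKbot, Subgroup.card_bot, mul_one] at h1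
    exact h1
  let e0 : G ≃* N ⧸ K :=
    (Subgroup.topEquiv.symm.trans (MulEquiv.subgroupCongr hNtop.symm)).trans
      ((QuotientGroup.quotientBot (G := N)).symm.trans (QuotientGroup.quotientMulEquivOfEq hKbot.symm))
  obtain ⟨ρ⟩ : Nonempty (E ≃+* F) := ⟨FiniteField.ringEquivOfCardEq (hE.trans hF.symm)⟩
  exact ⟨(e0.trans eT).trans ((Sz8Cover.szCongr hk h hm ρ).trans eL)⟩

end Cfsg.Agent.Lib.SzMaxOrders20
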